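import Cfsg.Agent.S0908
import Cfsg.Agent.S0956
import Cfsg.Agent.S4510
import Cfsg.Agent.Lib.Helper16.BrauerHom
import Cfsg.Agent.Lib.Helper16.BlockBasic
import Cfsg.Agent.Lib.Helper79.Integrality

/-!
# A generic "single block" criterion (helper2, hedge for M22B-[BLK])

If every nontrivial `p`-regular element `x` has `ν_p |C(x)| ≤ c`, every irreducible character has
`ν_p χ(1) ≤ e`, and `c + e < ν_p |G|`, then `G` has a single `p`-block.
-/

set_option autoImplicit false

namespace Cfsg.Agent.Lib.Helper2.M22B

open Cfsg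

universe u

variable {G : Type u} [Group G] [Finite G]

/-- every block has full defect -/
theorem blockDefect_eq_of_bounds (p : ℕ) [hp : Fact p.Prime] (c e : ℕ)
    (hA : ∀ x : G, x ≠ 1 → ¬ p ∣ orderOf x →
      (Nat.card ↥(Subgroup.centralizer ({x} : Set G))).factorization p ≤ c)
    (hDEG : ∀ χ : IrrCharacter G, (charDegree (χ : G → ℂ)).factorization p ≤ e)
    (hce : c + e < (Nat.card G).factorization p)
    (M : Ideal AlgInt) (hM : IsPModular p M) (B : Set (IrrCharacter G)) (hB : IsPBlock M B) :
    blockDefect p B = (Nat.card G).factorization p := by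
  classical
  have : Fintype G := Fintype.ofFinite G
  have hMp := Cfsg.Agent.Lib.Helper16.isPModular_isPrime hM
  obtain ⟨D, hD⟩ := Cfsg.Agent.Lib.Helper16.exists_isDefectGroup (M := M) p hB
  have hcard := Cfsg.Agent.S0908.result p M hM B hB D hD
  have hDp : IsPGroup p D := IsPGroup.of_card hcard
  obtain ⟨P, hDP⟩ := hDp.exists_le_sylow
  obtain ⟨x, hx, ⟨S', hS'⟩, -⟩ := Cfsg.Agent.S0956.result p M hM B hB D hD P hDP
  have h1 : Nat.card D = Nat.card (S' : Subgroup (Subgroup.centralizer ({x} : Set G))) := by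
    rw [← hS']
    exact Subgroup.card_map_of_injective (Subgroup.subtype_injective _)
  have h2 := S'.card_eq_multiplicity
  rw [h1, h2] at hcard
  have hd : (Nat.card ↥(Subgroup.centralizer ({x} : Set G))).factorization p = blockDefect p B :=
    Nat.pow_right_injective hp.out.two_le hcard
  -- lower bound for the defect
  have hne : B.Nonempty := Cfsg.Agent.Lib.Helper16.IsPBlock_nonempty hMp.ne_top hB
  obtain ⟨χ₀, hχ₀⟩ := hne
  have hinf : sInf ((fun χ : IrrCharacter G => (charDegree (χ : G → ℂ)).factorization p) '' B) ≤ e :=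
    (Nat.sInf_le (Set.mem_image_of_mem _ hχ₀)).trans (hDEG χ₀)
  have hlow : (Nat.card G).factorization p - e ≤ blockDefect p B := by
    unfold blockDefect
    omega
  by_cases hx1 : x = 1
  · subst hx1
    rw [← hd]
    have htop : Subgroup.centralizer ({(1 : G)} : Set G) = ⊤ := by
      rw [eq_top_iff]
      intro g _
      rw [Subgroup.mem_centralizer_iff]
      intro y hy
      rw [Set.mem_singleton_iff] at hy
      subst hy
      simp
    rw [htop, Subgroup.card_top]
  · exfalso
    have := hA x hx1 hx
    omega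

theorem memLocalIdeal_zero' (p : ℕ) (M : Ideal AlgInt) (hM : IsPModular p M) :
    MemLocalIdeal M 0 :=
  Cfsg.Agent.Lib.Helper16.memLocalIdeal_zero (Cfsg.Agent.Lib.Helper16.isPModular_isPrime hM).ne_top

/-- the generic single-block criterion -/
theorem single_block_of_bounds (p : ℕ) [hp : Fact p.Prime] (c e : ℕ)
    (hA : ∀ x : G, x ≠ 1 → ¬ p ∣ orderOf x →
      (Nat.card ↥(Subgroup.centralizer ({x} : Set G))).factorization p ≤ c)
    (hDEG : ∀ χ : IrrCharacter G, (charDegree (χ : G → ℂ)).factorization p ≤ e)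
    (hce : c + e < (Nat.card G).factorization p)
    (M : Ideal AlgInt) (hM : IsPModular p M) (χ ψ : IrrCharacter G) :
    SameBlock M (χ : G → ℂ) (ψ : G → ℂ) := by
  classical
  have hχ := blockDefect_eq_of_bounds p c e hA hDEG hce M hM _
    (Cfsg.Agent.Lib.Helper16.isPBlock_blockOf (M := M) χ)
  have hψ := blockDefect_eq_of_bounds p c e hA hDEG hce M hM _
    (Cfsg.Agent.Lib.Helper16.isPBlock_blockOf (M := M) ψ)
  rw [Cfsg.Agent.S4510.result p M hM _ χ ψ hχ hψ]
  intro x hx hdx
  by_cases hx1 : x = 1
  · subst hx1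
    have h1 : ∀ θ : IrrCharacter G, centralChar (θ : G → ℂ) 1 = 1 := by
      intro θ
      unfold centralChar
      have htop : Subgroup.centralizer ({(1 : G)} : Set G) = ⊤ := by
        rw [eq_top_iff]
        intro g _
        rw [Subgroup.mem_centralizer_iff]
        intro y hy
        rw [Set.mem_singleton_iff] at hy
        subst hy
        simp
      rw [htop, Subgroup.index_top, Nat.cast_one, one_mul]
      have hdeg := Cfsg.Agent.Lib.Helper79.irr_apply_one_eq_charDegree θ
      have hpos : (θ : G → ℂ) 1 ≠ 0 := by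
        rw [hdeg]
        exact_mod_cast (Cfsg.Agent.Lib.Helper79.irr_charDegree_pos θ).ne'
      exact div_self hpos
    rw [h1 χ, h1 ψ, sub_self]
    exact memLocalIdeal_zero' p M hM
  · exfalso
    have := hA x hx1 hx
    omega

end Cfsg.Agent.Lib.Helper2.M22B
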