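import Cfsg.Agent.Lib.Helper29.M22B.Defs
import Cfsg.Agent.Lib.Helper2.M22B.BlkGeneric

/-!
# M22B-[BLK] (hedge by helper2), `_of` form: [A] and [DEG] as hypotheses
-/

set_option autoImplicit false

namespace Cfsg.Agent.Lib.Helper2.M22B

open Cfsg Cfsg.Agent.Lib.Helper29.M22B

theorem factorization_card_M22 : (Nat.card G).factorization 2 = 7 := by
  have h : Nat.card G = 2 ^ 7 * 3465 := by
    show Nat.card ↥Spor.M22 = _
    rw [Cfsg.Agent.Lib.Helper92.SylM22.card_M22]
    norm_num
  rw [h, Nat.factorization_mul (by norm_num) (by norm_num), Nat.Prime.factorization_pow Nat.prime_two,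
    Finsupp.add_apply, Finsupp.single_eq_same,
    Nat.factorization_eq_zero_of_not_dvd (by norm_num : ¬ 2 ∣ 3465)]

/-- [BLK] in `_of` form: the statements of [A] (`cent_two_part`) and [DEG] (`degree_two_part`)
are hypotheses. -/
theorem single_block_of
    (hA : ∀ x : G, x ≠ 1 → ¬ 2 ∣ orderOf x →
      (Nat.card ↥(Subgroup.centralizer ({x} : Set G))).factorization 2 ≤ 2)
    (hDEG : ∀ χ : IrrCharacter G, (charDegree (χ : G → ℂ)).factorization 2 ≤ 3)
    (M : Ideal AlgInt) (hM : IsPModular 2 M) (χ ψ : IrrCharacter G) :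
    SameBlock M (χ : G → ℂ) (ψ : G → ℂ) :=
  haveI : Fact (Nat.Prime 2) := ⟨Nat.prime_two⟩
  single_block_of_bounds 2 2 3 hA hDEG (by rw [factorization_card_M22]; norm_num) M hM χ ψ

end Cfsg.Agent.Lib.Helper2.M22B
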