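import Mathlib

/-!
# M22B-[DEG]: the finite arithmetic check (helper2)

If `a, b, c` divide `443520 = |M22|` and `2a² + b² + c² = 160850`, then the 2-parts of `a, b, c`
are at most `8`.  (Solutions: `(45,280,280) (280,9,63) (280,63,9) (280,45,45)`.)
-/

set_option autoImplicit false

namespace Cfsg.Agent.Lib.Helper2.M22B

/-- the divisors of `443520` that are `≤ 401` -/
def divL : List ℕ := [1, 2, 3, 4, 5, 6, 7, 8, 9, 10, 11, 12, 14, 15, 16, 18, 20, 21, 22, 24, 28, 30,
  32, 33, 35, 36, 40, 42, 44, 45, 48, 55, 56, 60, 63, 64, 66, 70, 72, 77, 80, 84, 88, 90, 96, 99,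
  105, 110, 112, 120, 126, 128, 132, 140, 144, 154, 160, 165, 168, 176, 180, 192, 198, 210, 220,
  224, 231, 240, 252, 264, 280, 288, 308, 315, 320, 330, 336, 352, 360, 384, 385, 396]

theorem mem_divL : ∀ a : ℕ, a ≤ 401 → a ∣ 443520 → a ∈ divL := by decide +kernel

def chkDeg : Bool := divL.all fun a => divL.all fun b => divL.all fun c =>
  !(2 * a ^ 2 + b ^ 2 + c ^ 2 == 160850) || (a % 16 != 0 && b % 16 != 0 && c % 16 != 0)

theorem chkDeg_ok : chkDeg = true := by decide +kernel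

theorem factorization_two_le_three {a : ℕ} (ha : a ≠ 0) (h : a % 16 ≠ 0) :
    a.factorization 2 ≤ 3 := by
  by_contra hcon
  push_neg at hcon
  have h4 : 2 ^ 4 ∣ a := (Nat.Prime.pow_dvd_iff_le_factorization Nat.prime_two ha).mpr hcon
  have h16 : (16 : ℕ) ∣ a := by
    have : (2 : ℕ) ^ 4 = 16 := by norm_num
    rwa [this] at h4
  omega

/-- the arithmetic heart of [DEG] -/
theorem deg_arith (a b c : ℕ) (ha : a ∣ 443520) (hb : b ∣ 443520) (hc : c ∣ 443520)
    (h : 2 * a ^ 2 + b ^ 2 + c ^ 2 = 160850) :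
    a.factorization 2 ≤ 3 ∧ b.factorization 2 ≤ 3 ∧ c.factorization 2 ≤ 3 := by
  have ha0 : a ≠ 0 := by rintro rfl; simp at ha
  have hb0 : b ≠ 0 := by rintro rfl; simp at hb
  have hc0 : c ≠ 0 := by rintro rfl; simp at hc
  have ha1 : a ≤ 401 := by nlinarith
  have hb1 : b ≤ 401 := by nlinarith
  have hc1 : c ≤ 401 := by nlinarith
  have hA := mem_divL a ha1 ha
  have hB := mem_divL b hb1 hb
  have hC := mem_divL c hc1 hc
  have hk := chkDeg_ok
  unfold chkDeg at hk
  rw [List.all_eq_true] at hk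
  have h1 := hk a hA
  rw [List.all_eq_true] at h1
  have h2 := h1 b hB
  rw [List.all_eq_true] at h2
  have h3 := h2 c hC
  simp only [Bool.or_eq_true, Bool.not_eq_true', beq_eq_false_iff_ne, ne_eq, Bool.and_eq_true,
    bne_iff_ne] at h3
  rcases h3 with h3 | ⟨⟨h4, h5⟩, h6⟩
  · exact absurd h h3
  · exact ⟨factorization_two_le_three ha0 h4, factorization_two_le_three hb0 h5,
      factorization_two_le_three hc0 h6⟩

end Cfsg.Agent.Lib.Helper2.M22B
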